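/-
Abelian Sylow subgroups control fusion of their subsets (Burnside).
-/
import Mathlib

set_option autoImplicit false

namespace Cfsg.Agent.SylAbelian

variable {G : Type*} [Group G] [Finite G] {p : ℕ} [Fact p.Prime]

/-- An element moving a subset of an abelian Sylow subgroup into it can be corrected by an element
centralising the image so as to normalise the Sylow subgroup. -/
theorem exists_centralizer_mul_mem_normalizer (P : Sylow p G) (hP : IsMulCommutative (P : Subgroup G))
    {Q : Set G} (hQ : Q ⊆ (P : Subgroup G)) {g : G} (hg : ∀ x ∈ Q, g⁻¹ * x * g ∈ (P : Subgroup G)) :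
    ∃ c ∈ Subgroup.centralizer Q, c * g ∈ Subgroup.normalizer ((P : Subgroup G) : Set G) := by
  have hcomm : ∀ a ∈ (P : Subgroup G), ∀ b ∈ (P : Subgroup G), a * b = b * a := fun a ha b hb =>
    congrArg Subtype.val (hP.is_comm.comm ⟨a, ha⟩ ⟨b, hb⟩)
  have h1 : (P : Subgroup G) ≤ Subgroup.centralizer Q := fun a ha =>
    Subgroup.mem_centralizer_iff.2 fun x hx => hcomm x (hQ hx) a ha
  have h2 : ((g • P : Sylow p G) : Subgroup G) ≤ Subgroup.centralizer Q := by
    rintro _ ⟨a, ha, rfl⟩
    refine Subgroup.mem_centralizer_iff.2 fun x hx => ?_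
    change x * (g * a * g⁻¹) = g * a * g⁻¹ * x
    have := hcomm _ (hg x hx) a ha
    calc x * (g * a * g⁻¹) = g * (g⁻¹ * x * g * a) * g⁻¹ := by group
      _ = g * (a * (g⁻¹ * x * g)) * g⁻¹ := by rw [this]
      _ = _ := by group
  obtain ⟨c, hc⟩ := MulAction.exists_smul_eq (Subgroup.centralizer Q) ((g • P).subtype h2) (P.subtype h1)
  rw [Sylow.smul_subtype] at hc
  have e : (c : G) • g • P = P := Sylow.subtype_injective hc
  rw [smul_smul] at e
  exact ⟨c, c.2, Sylow.smul_eq_iff_mem_normalizer.1 e⟩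

end Cfsg.Agent.SylAbelian
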